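import Groth.Prelude.Def_Omega4
import Groth.Prelude.Def_Frob
import Groth.Agent.Approx.AffineImage
import Groth.Agent.QCoh.LocFree
import Groth.Agent.AModX.Res

/-!
Derivations over the base kill the Frobenius twist.
-/

set_option autoImplicit false
set_option backward.isDefEq.respectTransparency false
set_option backward.isDefEq.respectTransparency.types false
set_option linter.style.haveILetI false

universe u

open CategoryTheory CategoryTheory.Limits AlgebraicGeometry TopologicalSpace Opposite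
open Groth.Agent.AModX

namespace Groth.Agent.RelFrobDer

variable {X S : Scheme.{u}}

theorem app_mul {f : X ⟶ S} {M : X.Modules} (D : OmegaSh.Der f M) {U : X.Opens} (a b : Γ(X, U)) :
    D.app U (a * b) = a • D.app U b + b • D.app U a :=
  D.d_mul (X := op U) a b

theorem app_map {f : X ⟶ S} {M : X.Modules} (D : OmegaSh.Der f M) {U V : X.Opens} (h : V ≤ U) (a : Γ(X, U)) :
    D.app V (resR h a) = res M h (D.app U a) :=
  D.d_map (X := op U) (Y := op V) (homOfLE h).op a

theorem app_appLE {f : X ⟶ S} {M : X.Modules} (D : OmegaSh.Der f M) (W : S.Opens) (U : X.Opens)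
    (h : U ≤ f ⁻¹ᵁ W) (c : Γ(S, W)) : D.app U (f.appLE W U h c) = 0 := by
  show D.app U (resR h (f.app W c)) = 0
  rw [app_map]
  exact (congrArg (res M h) (D.d_app (X := op W) c)).trans (map_zero _)

/-- The sections killed by a derivation. -/
def killed {f : X ⟶ S} {M : X.Modules} (D : OmegaSh.Der f M) (U : X.Opens) : Subring Γ(X, U) where
  carrier := {a | D.app U a = 0}
  mul_mem' {a b} ha hb := by
    show D.app U (a * b) = 0
    rw [app_mul, show D.app U a = 0 from ha, show D.app U b = 0 from hb, smul_zero, smul_zero, add_zero]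
  one_mem' := D.d_one (op U)
  add_mem' {a b} ha hb := by
    show D.app U (a + b) = 0
    rw [map_add, show D.app U a = 0 from ha, show D.app U b = 0 from hb, add_zero]
  zero_mem' := map_zero _
  neg_mem' {a} ha := by
    show D.app U (-a) = 0
    rw [map_neg, show D.app U a = 0 from ha, neg_zero]

theorem mem_killed {f : X ⟶ S} {M : X.Modules} (D : OmegaSh.Der f M) {U : X.Opens} (a : Γ(X, U)) :
    a ∈ killed D U ↔ D.app U a = 0 := Iff.rfl

theorem app_pow_char {f : X ⟶ S} {M : X.Modules} (D : OmegaSh.Der f M) (p : ℕ) [hp : Fact p.Prime]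
    [FrobSch.IsCharP X p] (U : X.Opens) (a : Γ(X, U)) : D.app U (a ^ p) = 0 := by
  have key : ∀ m : ℕ, D.app U (a ^ (m + 1)) = ((m + 1 : ℕ) : Γ(X, U)) • (a ^ m • D.app U a) := by
    intro m
    induction m with
    | zero => simp
    | succ m ih =>
      rw [pow_succ a (m + 1), app_mul, ih, ← mul_smul, ← mul_smul, ← mul_smul, ← add_smul]
      congr 1
      push_cast
      ring
  obtain ⟨m, rfl⟩ : ∃ m, p = m + 1 := ⟨p - 1, (Nat.sub_add_cancel hp.out.one_le).symm⟩
  rw [key m, FrobSch.natCast_eq_zero_app X (m + 1) U, zero_smul]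

variable (p : ℕ) [Fact p.Prime] [FrobSch.IsCharP S p] (f : X ⟶ S) {M : X.Modules} (D : OmegaSh.Der f M)

/-- The twist is killed. -/
theorem app_relFrob (V : (FrobSch.frobTwist f p).Opens) (a : Γ(FrobSch.frobTwist f p, V)) :
    D.app (FrobSch.relFrob f p ⁻¹ᵁ V) ((FrobSch.relFrob f p).app V a) = 0 := by
  haveI : FrobSch.IsCharP X p := FrobSch.IsCharP.of_hom f p
  let F := FrobSch.relFrob f p
  have hfst : F ≫ pullback.fst f (FrobSch.frob S p) = FrobSch.frob X p := FrobSch.relFrob_fst f p
  have hsnd : F ≫ pullback.snd f (FrobSch.frob S p) = f := FrobSch.relFrob_snd f p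
  refine eq_of_locally (M := M) _ _ fun z hz => ?_
  -- an affine chart of the twist
  obtain ⟨_, ⟨W, hW, rfl⟩, hzW, -⟩ :=
    S.isBasis_affineOpens.exists_subset_of_mem_open (Set.mem_univ (f z)) isOpen_univ
  obtain ⟨_, ⟨U, hU, rfl⟩, hzU, hUW⟩ :=
    X.isBasis_affineOpens.exists_subset_of_mem_open (show z ∈ f ⁻¹ᵁ W from hzW) (f ⁻¹ᵁ W).2
  replace hW : IsAffineOpen W := hW
  replace hU : IsAffineOpen U := hU
  replace hUW : U ≤ f ⁻¹ᵁ W := hUW
  let P : (FrobSch.frobTwist f p).Opens :=
    pullback.fst f (FrobSch.frob S p) ⁻¹ᵁ U ⊓ pullback.snd f (FrobSch.frob S p) ⁻¹ᵁ W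
  have hFW : W ≤ FrobSch.frob S p ⁻¹ᵁ W := le_of_eq (FrobSch.frob_preimage S p W).symm
  have hpo := (isIso_pushoutSection_iff (IsPullback.of_hasPullback f (FrobSch.frob S p)) hFW hUW
    (UY := P) rfl).1 (isIso_pushoutSection_of_isAffineOpen _ _ _ rfl hW hW hU)
  have hgen := Approx.closure_of_isPushout hpo
  have hzP : z ∈ F ⁻¹ᵁ P := by
    refine ⟨?_, ?_⟩
    · show (F ≫ pullback.fst f (FrobSch.frob S p)) z ∈ U
      rw [hfst]; exact hzU
    · show (F ≫ pullback.snd f (FrobSch.frob S p)) z ∈ W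
      rw [hsnd]; exact hzW
  have hall : ∀ b : Γ(FrobSch.frobTwist f p, P), D.app (F ⁻¹ᵁ P) (F.app P b) = 0 := by
    intro b
    have hb : b ∈ (killed D (F ⁻¹ᵁ P)).comap (F.app P).hom := by
      refine (Subring.closure_le (t := (killed D (F ⁻¹ᵁ P)).comap (F.app P).hom)).2 ?_ (hgen ▸ Subring.mem_top b)
      have hcomp : ∀ {T : Scheme.{u}} (q : FrobSch.frobTwist f p ⟶ T) (g : X ⟶ T), F ≫ q = g →
          ∀ (O : T.Opens) (hO : P ≤ q ⁻¹ᵁ O) (c : Γ(T, O)), ∃ h, F.app P (q.appLE O P hO c) = g.appLE O (F ⁻¹ᵁ P) h c := by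
        rintro T q g rfl O hO c
        refine ⟨fun y hy => hO hy, ?_⟩
        rw [← ConcreteCategory.comp_apply, ← Scheme.Hom.appLE_eq_app, Scheme.Hom.appLE_comp_appLE]
      rintro _ (⟨c, rfl⟩ | ⟨c, rfl⟩)
      · obtain ⟨h, e⟩ := hcomp _ _ hfst U inf_le_left c
        refine (mem_killed D _).2 ?_
        refine (congrArg (D.app (F ⁻¹ᵁ P)) (e.trans ?_)).trans (app_pow_char D p (F ⁻¹ᵁ P) (resR h c))
        show resR h ((FrobSch.frob X p).app U c) = _
        rw [FrobSch.frob_app, map_pow]
      · obtain ⟨h, e⟩ := hcomp _ _ hsnd W inf_le_right c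
        exact (congrArg (D.app (F ⁻¹ᵁ P)) e).trans (app_appLE D W _ h c)
    exact hb
  haveI : IsAffine (W : Scheme.{u}) := hW
  haveI : IsAffine (U : Scheme.{u}) := hU
  have hP : IsAffineOpen P :=
    .of_isIso (Scheme.Hom.isPullback_resLE (IsPullback.of_hasPullback f (FrobSch.frob S p)) hFW hUW (UY := P) rfl).isoPullback.hom
  obtain ⟨h, hh, hzh⟩ := hP.exists_basicOpen_le (V := V) ⟨F z, hz⟩ hzP
  let O := (FrobSch.frobTwist f p).basicOpen h
  refine ⟨F ⁻¹ᵁ O, F.preimage_mono hh, hzh, ?_⟩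
  haveI := hP.isLocalization_basicOpen h
  obtain ⟨⟨b, ⟨_, n, rfl⟩⟩, hb⟩ := IsLocalization.surj (Submonoid.powers h) (resR hh a)
  have hle : O ≤ P := (FrobSch.frobTwist f p).basicOpen_le h
  change resR hh a * resR hle (h ^ n) = resR hle b at hb
  have e := congrArg (fun s => D.app (F ⁻¹ᵁ O) (F.app O s)) hb
  have hk : ∀ c : Γ(FrobSch.frobTwist f p, P), D.app (F ⁻¹ᵁ O) (F.app O (resR hle c)) = 0 := fun c => by
    rw [show F.app O (resR hle c) = resR (F.preimage_mono hle) (F.app P c) from
      ConcreteCategory.congr_hom (F.naturality (homOfLE hle).op) c, app_map, hall, map_zero]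
  simp only [map_mul, app_mul, hk, smul_zero, zero_add] at e
  have hu : IsUnit (F.app O (resR hle (h ^ n))) := by
    refine IsUnit.map _ ?_
    rw [map_pow]
    exact ((isUnit_resR hle h le_rfl)).pow n
  have e2 := hu.smul_eq_zero.1 e
  show res M _ (D.app (F ⁻¹ᵁ V) (F.app V a)) = res M _ 0
  rw [map_zero, ← app_map, ← e2]
  exact congrArg (D.app _) (ConcreteCategory.congr_hom (F.naturality (homOfLE hh).op) a).symm

/-- The derivation relative to the twist. -/
noncomputable def lift : OmegaSh.Der (FrobSch.relFrob f p) M where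
  d := fun {U} => D.d (X := U)
  d_mul := fun {U} a b => D.d_mul (X := U) a b
  d_map := fun {U V} i x => D.d_map (X := U) (Y := V) i x
  d_app := fun {V} a => app_relFrob p f D V.unop a

/-- A derivation relative to the twist is one relative to the base. -/
noncomputable def descend (E : OmegaSh.Der (FrobSch.relFrob f p) M) : OmegaSh.Der f M where
  d := fun {U} => E.d (X := U)
  d_mul := fun {U} a b => E.d_mul (X := U) a b
  d_map := fun {U V} i x => E.d_map (X := U) (Y := V) i x
  d_app := fun {W} c => by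
    have hsnd : FrobSch.relFrob f p ≫ pullback.snd f (FrobSch.frob S p) = f := FrobSch.relFrob_snd f p
    have key : ∀ (g : X ⟶ S), FrobSch.relFrob f p ≫ pullback.snd f (FrobSch.frob S p) = g →
        E.app (g ⁻¹ᵁ W.unop) (g.app W.unop c) = 0 := by
      rintro g rfl
      exact E.d_app (X := op (pullback.snd f (FrobSch.frob S p) ⁻¹ᵁ W.unop))
        ((pullback.snd f (FrobSch.frob S p)).app W.unop c)
    exact key f hsnd

include D in
theorem main (hd : OmegaSh.IsUniversal D) :
    ∃ d' : OmegaSh.Der (FrobSch.relFrob f p) M,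
      (∀ (U : X.Opens) (s : Γ(X, U)), d'.app U s = D.app U s) ∧ OmegaSh.IsUniversal d' := by
  refine ⟨lift p f D, fun U s => rfl, fun F E => ?_⟩
  obtain ⟨α, hα, huniq⟩ := hd F (descend p f E)
  refine ⟨α, ?_, fun β hβ => huniq β ?_⟩
  · refine PresheafOfModules.Derivation.ext (funext fun U => ?_)
    ext x
    exact PresheafOfModules.Derivation.congr_d hα x
  · refine PresheafOfModules.Derivation.ext (funext fun U => ?_)
    ext x
    exact PresheafOfModules.Derivation.congr_d hβ x

end Groth.Agent.RelFrobDer
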